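import Groth.Agent.RefPowLib.Legs
import Mathlib

/-!
When the locus where the section generates is affine over the scheme.
-/

set_option autoImplicit false
set_option linter.style.haveILetI false
set_option backward.isDefEq.respectTransparency false

universe u

open CategoryTheory AlgebraicGeometry TopologicalSpace Opposite
open Groth.Agent.QC (res resO res_res res_smul isLoc_of_isQCoh)
open Groth.Agent.WeakAssLib (mgerm mgerm_smul mgerm_res)
open Groth.Agent.RefStalk (msp msp_germ msp_smul toGen)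
open Groth.Agent.RefDiv

noncomputable section

namespace Groth.Agent.RefPowLib

variable {X : Scheme.{u}} [IsIntegral X]

/-- The rational function of a section over an open containing the generic point. -/
abbrev rat {W : X.Opens} (hη : genericPoint X ∈ W) : Γ(X, W) →+* X.functionField :=
  (X.presheaf.germ W (genericPoint X) hη).hom

theorem rat_res {V W : X.Opens} (h : W ≤ V) (hη : genericPoint X ∈ W) (b : Γ(X, V)) :
    rat hη (resO X h b) = rat (h hη) b := X.presheaf.germ_res_apply _ _ _ _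

theorem sp_germ {V : X.Opens} {x : X} (hx : x ∈ V) (b : Γ(X, V)) :
    sp x ((X.presheaf.germ V x hx).hom b) = rat ((toGen x).mem_open V.2 hx) b :=
  X.presheaf.germ_stalkSpecializes_apply hx (toGen x) b

variable [IsLocallyNoetherian X] (hn : Pi1.IsNormalScheme X) {F : X.Modules} (hF : RefHull.IsRef1 F)
  (s : Coh.structureModule X ⟶ F) (U : X.Opens) (hU : (U : Set X) = RefPow.isoLocus s)

include hn hF hU

theorem exists_bound (hs : sg s 1 (genericPoint X) ≠ 0) {V : X.Opens} (hV : IsAffineOpen V) {y : X} (hy : y ∈ V)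
    (hη : genericPoint X ∈ U ⊓ V) (c : Γ(X, U ⊓ V)) :
    ∃ n₀ : ℕ, ∀ n, n₀ ≤ n → ∃ w : (RefPow.refPow F n).presheaf.stalk y,
      msp (RefPow.refPow F n) (toGen y) w = rat hη c • sg s n (genericPoint X) := by
  classical
  rcases eq_or_ne (rat hη c) 0 with hc | hc
  · exact ⟨0, fun n _ => exists_stalk s hn hF hs n _ y fun x _ _ => Or.inl hc⟩
  refine ⟨∑ x ∈ (DivOrd.finite_ord_ne_zero V hV _ hc).toFinset, (Scheme.ord (rat hη c) x).natAbs,
    fun n hN => exists_stalk s hn hF hs n _ y fun x hxy hx => Or.inr ?_⟩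
  have hd := d_nonneg s hn hF hs hx
  have hxV : x ∈ V := hxy.mem_open V.2 hy
  have hn0 : (0 : ℤ) ≤ n * d s x := mul_nonneg (Nat.cast_nonneg n) hd
  by_cases hxU : x ∈ U
  · have h1 : 0 ≤ Scheme.ord (rat hη c) x := (RefDiv.ord_nonneg_iff hn hx hc).2 ⟨_, sp_germ (V := U ⊓ V) ⟨hxU, hxV⟩ c⟩
    omega
  · by_cases h0 : Scheme.ord (rat hη c) x = 0
    · omega
    have h1 := Finset.single_le_sum (f := fun z => (Scheme.ord (rat hη c) z).natAbs) (fun z _ => Nat.zero_le _)
      ((DivOrd.finite_ord_ne_zero V hV _ hc).mem_toFinset.2 ⟨hxV, hx, h0⟩)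
    have h3 : (Scheme.ord (rat hη c) x).natAbs ≤ n := h1.trans hN
    have h2 := mul_le_mul_of_nonneg_left (one_le_d s U hU hn hF hs hx hxU) (Nat.cast_nonneg (α := ℤ) n)
    omega

/-- Affineness of the complement gives powers of the section in the maximal ideal. -/
theorem exists_mem_of_isAffine {V : X.Opens} (hV : IsAffineOpen V) (hW : IsAffineOpen (U ⊓ V)) {x : X}
    (hx : x ∈ V) (hxU : x ∉ U) :
    ∃ n : ℕ, 0 < n ∧ RefPow.sPowGerm s n x ∈
      IsLocalRing.maximalIdeal (X.presheaf.stalk x) • (⊤ : Submodule (X.presheaf.stalk x) ((RefPow.refPow F n).presheaf.stalk x)) := by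
  by_cases hs : sg s 1 (genericPoint X) = 0
  · refine ⟨1, one_pos, ?_⟩
    have h : sg s 1 x = 0 := (lat_of_isRef1 hF).injective_msp x
      (((msp_sg s (toGen x) 1).trans hs).trans (map_zero _).symm)
    show sg s 1 x ∈ _
    rw [h]
    exact Submodule.zero_mem _
  have hη : genericPoint X ∈ U ⊓ V := ⟨generic_mem s U hU hn hF hs, mem_of_nonempty hx⟩
  let ρ : Γ(X, V) →+* Γ(X, U ⊓ V) := (resO X (inf_le_right : U ⊓ V ≤ V))
  let p := (hV.primeIdealOf ⟨x, hx⟩).asIdeal
  have htop : p.map ρ = ⊤ := by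
    by_contra hne
    obtain ⟨P, hP, hle⟩ := Ideal.exists_le_maximal _ hne
    let z := hW.fromSpec ⟨P, hP.isPrime⟩
    have hz : z ∈ U ⊓ V := hW.range_fromSpec.le ⟨_, rfl⟩
    have hzP : hW.primeIdealOf ⟨z, hz⟩ = ⟨P, hP.isPrime⟩ :=
      hW.fromSpec.isOpenEmbedding.injective (hW.fromSpec_primeIdealOf ⟨z, hz⟩)
    have hsp : p ≤ (hV.primeIdealOf ⟨z, hz.2⟩).asIdeal := fun b hb => by
      by_contra hb'
      have hzb : z ∈ X.basicOpen b := (WeakAssLib.mem_primeIdealOf hV hz.2 b).2 hb'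
      have hzb' : z ∈ X.basicOpen (ρ b) := by
        show z ∈ X.basicOpen ((X.presheaf.map (homOfLE (inf_le_right : U ⊓ V ≤ V)).op).hom b)
        rw [X.basicOpen_res]
        exact ⟨hz, hzb⟩
      exact (WeakAssLib.mem_primeIdealOf hW hz (ρ b)).1 hzb' (by rw [hzP]; exact hle (Ideal.mem_map_of_mem ρ hb))
    have hxz : x ⤳ z := by
      have h1 := Specializes.map ((PrimeSpectrum.le_iff_specializes _ _).1 hsp) hV.fromSpec.continuous
      have e1 : hV.fromSpec (hV.primeIdealOf ⟨x, hx⟩) = x := hV.fromSpec_primeIdealOf ⟨x, hx⟩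
      have e2 : hV.fromSpec (hV.primeIdealOf ⟨z, hz.2⟩) = z := hV.fromSpec_primeIdealOf ⟨z, hz.2⟩
      rwa [e1, e2] at h1
    exact hxU (hxz.mem_open U.2 hz.1)
  let m := IsLocalRing.maximalIdeal (X.presheaf.stalk x)
  have key : ∀ r ∈ p.map ρ, ∀ c : Γ(X, U ⊓ V), ∃ n₀ : ℕ, ∀ n, n₀ ≤ n →
      ∃ w ∈ m • (⊤ : Submodule (X.presheaf.stalk x) ((RefPow.refPow F n).presheaf.stalk x)),
        msp (RefPow.refPow F n) (toGen x) w = rat hη (c * r) • sg s n (genericPoint X) := by
    intro r hr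
    induction hr using Submodule.span_induction with
    | mem z hz =>
      obtain ⟨b, hb, rfl⟩ := hz
      intro c
      obtain ⟨n₀, h⟩ := exists_bound hn hF s U hU hs hV hx hη c
      refine ⟨n₀, fun n hN => ?_⟩
      obtain ⟨w, hw⟩ := h n hN
      refine ⟨(X.presheaf.germ V x hx).hom b • w, Submodule.smul_mem_smul ?_ Submodule.mem_top, ?_⟩
      · exact (IsLocalRing.mem_maximalIdeal _).2 fun hu =>
          (WeakAssLib.mem_primeIdealOf hV hx b).1 ((X.mem_basicOpen b x hx).2 hu) hb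
      · rw [msp_smul, hw, smul_smul, map_mul, mul_comm (rat hη c)]
        refine congrArg (fun t => (t * rat hη c) • sg s n (genericPoint X)) ?_
        exact (sp_germ hx b).trans (rat_res (inf_le_right : U ⊓ V ≤ V) hη b).symm
    | zero => exact fun c => ⟨0, fun n _ => ⟨0, Submodule.zero_mem _, by
        rw [map_zero, mul_zero, map_zero]; exact (zero_smul _ _).symm⟩⟩
    | add a b _ _ ha hb =>
      intro c
      obtain ⟨n₁, h₁⟩ := ha c
      obtain ⟨n₂, h₂⟩ := hb c
      refine ⟨max n₁ n₂, fun n hN => ?_⟩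
      obtain ⟨w₁, hm₁, e₁⟩ := h₁ n ((le_max_left _ _).trans hN)
      obtain ⟨w₂, hm₂, e₂⟩ := h₂ n ((le_max_right _ _).trans hN)
      exact ⟨w₁ + w₂, Submodule.add_mem _ hm₁ hm₂, by rw [map_add, e₁, e₂, mul_add, map_add]; exact (add_smul _ _ _).symm⟩
    | smul a b _ hb =>
      intro c
      obtain ⟨n₁, h₁⟩ := hb (c * a)
      exact ⟨n₁, fun n hN => by rw [smul_eq_mul, ← mul_assoc]; exact h₁ n hN⟩
  obtain ⟨n₀, h⟩ := key 1 (by rw [htop]; exact Submodule.mem_top) 1
  obtain ⟨w, hw, e⟩ := h (n₀ + 1) (Nat.le_add_right _ _)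
  refine ⟨n₀ + 1, Nat.succ_pos _, ?_⟩
  have hwe : w = sg s (n₀ + 1) x := (lat_refPow s hn hF hs (n₀ + 1)).injective_msp x (by
    rw [e, msp_sg, mul_one, map_one]; exact one_smul _ _)
  show sg s (n₀ + 1) x ∈ _
  rw [← hwe]
  exact hw

/-- Powers of the section in the maximal ideals give affineness. -/
theorem isAffineOpen_inf (h : ∀ x : X, x ∉ U → ∃ n : ℕ, 0 < n ∧ RefPow.sPowGerm s n x ∈
      IsLocalRing.maximalIdeal (X.presheaf.stalk x) • (⊤ : Submodule (X.presheaf.stalk x) ((RefPow.refPow F n).presheaf.stalk x)))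
    {V : X.Opens} (hV : IsAffineOpen V) : IsAffineOpen (U ⊓ V) := by
  let ρ : Γ(X, V) →+* Γ(X, U ⊓ V) := (resO X (inf_le_right : U ⊓ V ≤ V))
  let S : Set Γ(X, U ⊓ V) := ρ '' {f | X.basicOpen f ≤ U}
  refine isAffineOpen_of_isAffineOpen_basicOpen (U ⊓ V) S ?_ ?_
  swap
  · rintro _ ⟨f, hf, rfl⟩
    show IsAffineOpen (X.basicOpen ((X.presheaf.map (homOfLE (inf_le_right : U ⊓ V ≤ V)).op).hom f))
    rw [X.basicOpen_res, inf_eq_right.2 (le_inf hf (X.basicOpen_le f))]
    exact hV.basicOpen f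
  by_contra hne
  obtain ⟨P, hP, hle⟩ := Ideal.exists_le_maximal _ hne
  let q : PrimeSpectrum Γ(X, V) := ⟨P.comap ρ, haveI := hP.isPrime; Ideal.comap_isPrime ρ P⟩
  let x := hV.fromSpec q
  have hx : x ∈ V := hV.range_fromSpec.le ⟨q, rfl⟩
  have hxq : hV.primeIdealOf ⟨x, hx⟩ = q :=
    hV.fromSpec.isOpenEmbedding.injective (hV.fromSpec_primeIdealOf ⟨x, hx⟩)
  have hxU : x ∉ U := fun hxU => by
    obtain ⟨f, hf, hxf⟩ := hV.exists_basicOpen_le (V := U) ⟨x, hxU⟩ hx
    exact (WeakAssLib.mem_primeIdealOf hV hx f).1 hxf (by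
      rw [hxq]; exact hle (Ideal.subset_span ⟨f, hf, rfl⟩))
  obtain ⟨y, hy⟩ : (U ⊓ V : Set X).Nonempty := by
    by_contra he
    refine hP.ne_top (P.eq_top_iff_one.2 ?_)
    have h10 : (1 : Γ(X, U ⊓ V)) = 0 :=
      TopCat.Presheaf.section_ext X.sheaf (U ⊓ V) _ _ fun z hz => absurd ⟨z, hz⟩ he
    rw [h10]
    exact P.zero_mem
  have hη : genericPoint X ∈ U ⊓ V := mem_of_nonempty (O := U ⊓ V) hy
  have hs := sg_ne_zero_of_mem s U hU hn hF hη.1
  obtain ⟨n, -, hmem⟩ := h x hxU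
  have hl := lat_refPow s hn hF hs n
  have hgen : TMul.IsGen (res (RefPow.refPow F n) (le_top : U ⊓ V ≤ ⊤)
      (SecTwist.val (RefPow.sPow s n) ⊤ : Γ(RefPow.refPow F n, (⊤ : X.Opens)))) :=
    RefStalk.isGen_of_stalk fun z hz => by
      rw [mgerm_res]
      exact bijective_sg s U hU hn hF hz.1 n
  letI := (X.presheaf.germ V x hx).hom.toAlgebra
  haveI := hV.isLocalization_stalk ⟨x, hx⟩
  have key : ∀ v ∈ IsLocalRing.maximalIdeal (X.presheaf.stalk x) •
      (⊤ : Submodule (X.presheaf.stalk x) ((RefPow.refPow F n).presheaf.stalk x)),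
      ∃ e : Γ(X, V), e ∉ q.asIdeal ∧ ∃ r ∈ P,
        rat hη.2 e • msp (RefPow.refPow F n) (toGen x) v = rat hη r • sg s n (genericPoint X) := by
    intro v hv
    refine Submodule.smul_induction_on hv (fun a ha w _ => ?_) fun v₁ v₂ h₁ h₂ => ?_
    · obtain ⟨⟨b, e₁⟩, he₁⟩ := IsLocalization.surj (hV.primeIdealOf ⟨x, hx⟩).asIdeal.primeCompl a
      change a * (X.presheaf.germ V x hx).hom e₁.1 = (X.presheaf.germ V x hx).hom b at he₁
      have hb : b ∈ q.asIdeal := by
        rw [← hxq]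
        by_contra hb
        have hu := WeakAssLib.isUnit_germ hV hx hb
        rw [← he₁] at hu
        exact (IsLocalRing.mem_maximalIdeal a).1 ha (IsUnit.mul_iff.1 hu).1
      obtain ⟨e₂, t, he₂, ht⟩ := WeakAssLib.exists_germ hV
        (isLoc_of_isQCoh hV (hM := hl.coh.1)) hx w
      obtain ⟨r₂, hr₂⟩ := (hgen (U ⊓ V) le_rfl).2 (res (RefPow.refPow F n) inf_le_right t)
      change r₂ • _ = _ at hr₂
      have hw : rat hη.2 e₂ • msp (RefPow.refPow F n) (toGen x) w = rat hη r₂ • sg s n (genericPoint X) := by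
        have h1 := congrArg (msp (RefPow.refPow F n) (toGen x)) ht
        rw [msp_smul, msp_germ] at h1
        have h2 := congrArg (mgerm (RefPow.refPow F n) hη) hr₂
        rw [mgerm_smul, mgerm_res, mgerm_res, mgerm_res] at h2
        exact ((congrArg (· • _) (sp_germ hx e₂).symm).trans h1).trans h2.symm
      refine ⟨e₁.1 * e₂, fun hh => ?_, ρ b * r₂, P.mul_mem_right _ hb, ?_⟩
      · rw [← hxq] at hh
        exact ((hV.primeIdealOf ⟨x, hx⟩).isPrime.mem_or_mem hh).elim e₁.2 he₂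
      · have h3 : rat hη.2 e₁.1 * sp x a = rat hη.2 b := by
          rw [← sp_germ hx, ← sp_germ hx b, ← he₁, map_mul, mul_comm]
        calc rat hη.2 (e₁.1 * e₂) • msp (RefPow.refPow F n) (toGen x) (a • w)
            = (rat hη.2 e₁.1 * sp x a) • (rat hη.2 e₂ • msp (RefPow.refPow F n) (toGen x) w) := by
              rw [msp_smul, map_mul, smul_smul, smul_smul, mul_right_comm]
          _ = rat hη (ρ b * r₂) • sg s n (genericPoint X) := by
              rw [h3, hw, smul_smul, map_mul]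
              exact congrArg (fun u => (u * rat hη r₂) • sg s n (genericPoint X)) (rat_res (inf_le_right : U ⊓ V ≤ V) hη b).symm
    · obtain ⟨e₁, he₁, r₁, hr₁, k₁⟩ := h₁
      obtain ⟨e₂, he₂, r₂, hr₂, k₂⟩ := h₂
      refine ⟨e₁ * e₂, fun hh => (q.isPrime.mem_or_mem hh).elim he₁ he₂, ρ e₂ * r₁ + ρ e₁ * r₂,
        P.add_mem (P.mul_mem_left _ hr₁) (P.mul_mem_left _ hr₂), ?_⟩
      have h1 : rat hη (ρ e₂ * r₁) • sg s n (genericPoint X) =
          rat hη.2 (e₁ * e₂) • msp (RefPow.refPow F n) (toGen x) v₁ := by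
        rw [map_mul, mul_smul, ← k₁, smul_smul, map_mul, mul_comm (rat hη.2 e₁)]
        exact congrArg (fun u => (u * rat hη.2 e₁) • _) (rat_res (inf_le_right : U ⊓ V ≤ V) hη e₂)
      have h2 : rat hη (ρ e₁ * r₂) • sg s n (genericPoint X) =
          rat hη.2 (e₁ * e₂) • msp (RefPow.refPow F n) (toGen x) v₂ := by
        rw [map_mul, mul_smul, ← k₂, smul_smul, map_mul]
        exact congrArg (fun u => (u * rat hη.2 e₂) • _) (rat_res (inf_le_right : U ⊓ V ≤ V) hη e₁)
      rw [map_add (msp (RefPow.refPow F n) (toGen x)), smul_add, ← h1, ← h2, map_add]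
      exact (add_smul _ _ _).symm
  obtain ⟨e, he, r, hr, k⟩ := key _ hmem
  rw [msp_sg] at k
  have he' : ρ e = r := AlgebraicGeometry.germ_injective_of_isIntegral (X := X) (U := U ⊓ V) _ hη
    ((rat_res (inf_le_right : U ⊓ V ≤ V) hη e).trans (smul_cancel (RefPowLib.key s hn hF hs n).2.1 k))
  exact he (show ρ e ∈ P by rw [he']; exact hr)

end Groth.Agent.RefPowLib
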