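import Groth.Agent.RefDiv.Ops
import Groth.Prelude.Def_RefPow
import Mathlib

/-!
Reflexive powers of a rank one reflexive module with a section: sections as rational functions with bounded poles.
-/

set_option autoImplicit false
set_option linter.style.haveILetI false
set_option backward.isDefEq.respectTransparency false

universe u

open CategoryTheory CategoryTheory.Limits AlgebraicGeometry TopologicalSpace Opposite
open Groth.Agent.QC (res resO res_res res_smul)
open Groth.Agent.WeakAssLib (mgerm mgerm_smul mgerm_res)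
open Groth.Agent.RefStalk (msp msp_germ msp_smul msp_msp stalkMap_msp toGen)
open Groth.Agent.RefDiv
open TMul (IsGen tm isGen_tm)

noncomputable section

namespace Groth.Agent.RefPowLib

variable {X : Scheme.{u}}

theorem stalkMap_oneM {L : X.Modules} (φ : Coh.structureModule X ⟶ L) (y : X) :
    RefHull.stalkMapₗ φ y (oneM y) =
      mgerm L (show y ∈ (⊤ : X.Opens) from trivial) (SecTwist.val φ ⊤ : Γ(L, (⊤ : X.Opens))) :=
  RefHull.stalkMapₗ_germ φ y _ _

variable {F : X.Modules} (s : Coh.structureModule X ⟶ F)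

/-- The germ of the power of the section. -/
abbrev sg (n : ℕ) (y : X) : (RefPow.refPow F n).presheaf.stalk y := RefPow.sPowGerm s n y

theorem stalkMap_sPow (n : ℕ) (y : X) : RefHull.stalkMapₗ (RefPow.sPow s n) y (oneM y) = sg s n y :=
  stalkMap_oneM _ y

theorem sg_succ (n : ℕ) (y : X) : RefHull.stalkMapₗ (RefPow.mulBy s n) y (sg s n y) = sg s (n + 1) y := by
  rw [← stalkMap_sPow, ← stalkMap_sPow, ← stalkMap_comp]
  rfl

theorem msp_sg {x y : X} (h : x ⤳ y) (n : ℕ) : msp (RefPow.refPow F n) h (sg s n y) = sg s n x :=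
  msp_germ _ h _ _

theorem sg_succ_succ (n : ℕ) (y : X) : sg s (n + 2) y =
    RefHull.stalkMapₗ (RefHull.bidualMap (CohB1.tensorMod (RefPow.refPow F (n + 1)) F)) y
      (mgerm (CohB1.tensorMod (RefPow.refPow F (n + 1)) F) (show y ∈ (⊤ : X.Opens) from trivial)
        (tm (SecTwist.val (RefPow.sPow s (n + 1)) ⊤ : Γ(RefPow.refPow F (n + 1), (⊤ : X.Opens)))
          (SecTwist.val s ⊤ : Γ(F, (⊤ : X.Opens))))) := by
  rw [← sg_succ s (n + 1) y]
  refine (RefHull.stalkMapₗ_germ (RefPow.mulBy s (n + 1)) y _ _).trans ?_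
  refine Eq.trans ?_ (RefHull.stalkMapₗ_germ _ y _ _).symm
  exact congrArg _ (RefPow.mulBy_succ_app s n ⊤ _)

variable [IsIntegral X] [IsLocallyNoetherian X] (hn : Pi1.IsNormalScheme X)

include hn in
/-- The divisor of a tensor of sections. -/
theorem dv_tm {A B : X.Modules} (hA : Lat A) (hB : Lat B) {O : X.Opens} (hη : genericPoint X ∈ O)
    (a : Γ(A, O)) (b : Γ(B, O)) (ha0 : mgerm A hη a ≠ 0) (hb0 : mgerm B hη b ≠ 0) :
    RefHull.stalkMapₗ (RefHull.bidualMap (CohB1.tensorMod A B)) (genericPoint X)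
      (mgerm (CohB1.tensorMod A B) hη (tm a b)) ≠ 0 ∧
    ∀ x : X, Order.coheight x = 1 → dv (RefHull.ddual (CohB1.tensorMod A B)) x
      (RefHull.stalkMapₗ (RefHull.bidualMap (CohB1.tensorMod A B)) (genericPoint X)
        (mgerm (CohB1.tensorMod A B) hη (tm a b))) = dv A x (mgerm A hη a) + dv B x (mgerm B hη b) := by
  have hc := isCoh_tensor hA.coh hB.coh
  refine ⟨fun h0 => ?_, fun x hx => ?_⟩
  · have h1 := (bijective_bidual_generic hc).1 (h0.trans (map_zero _).symm)
    obtain ⟨W₁, hW₁, e₁, he₁⟩ := hA.exists_isGen_generic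
    obtain ⟨W₂, hW₂, f₁, hf₁⟩ := hB.exists_isGen_generic
    have hW : genericPoint X ∈ W₁ ⊓ W₂ := ⟨hW₁, hW₂⟩
    have he := he₁.res (inf_le_left : W₁ ⊓ W₂ ≤ W₁)
    have hf := hf₁.res (inf_le_right : W₁ ⊓ W₂ ≤ W₂)
    obtain ⟨φ, hφ⟩ := (bijective_germ_of_isGen he hW).2 (mgerm A hη a)
    obtain ⟨ψ, hψ⟩ := (bijective_germ_of_isGen hf hW).2 (mgerm B hη b)
    change φ • _ = _ at hφ
    change ψ • _ = _ at hψ
    rw [germ_tm_eq hη hW he hf hφ hψ] at h1
    have h2 := (bijective_germ_of_isGen (isGen_tm he hf) hW).1 (a₁ := φ * ψ) (a₂ := 0)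
      (h1.trans (zero_smul (X.presheaf.stalk (genericPoint X)) _).symm)
    rcases mul_eq_zero.1 (h2 : (φ * ψ : X.functionField) = 0) with h3 | h3
    · exact ha0 (by rw [← hφ, h3]; exact zero_smul _ _)
    · exact hb0 (by rw [← hψ, h3]; exact zero_smul _ _)
  · obtain ⟨m, hm⟩ := hA.exists_span hn hx
    obtain ⟨m', hm'⟩ := hB.exists_span hn hx
    obtain ⟨P, hxP, e, he, hge⟩ := hA.exists_isGen hm
    obtain ⟨Q, hxQ, f, hf, hgf⟩ := hB.exists_isGen hm'
    obtain ⟨φ, hφ, hφs⟩ := hA.exists_coeff hm ha0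
    obtain ⟨ψ, hψ, hψt⟩ := hB.exists_coeff hm' hb0
    have hxO : x ∈ P ⊓ Q := ⟨hxP, hxQ⟩
    have hηO : genericPoint X ∈ P ⊓ Q := (toGen x).mem_open (P ⊓ Q).2 hxO
    have hea : φ • mgerm A hηO (res A inf_le_left e) = mgerm A hη a := by
      rw [← hφs, ← msp_germ A (toGen x) hxO, mgerm_res, he]
    have heb : ψ • mgerm B hηO (res B inf_le_right f) = mgerm B hη b := by
      rw [← hψt, ← msp_germ B (toGen x) hxO, mgerm_res, hf]
    let c := mgerm (CohB1.tensorMod A B) hxO (tm (res A inf_le_left e) (res B inf_le_right f))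
    have hcspan : Submodule.span (X.presheaf.stalk x) {RefHull.stalkMapₗ (RefHull.bidualMap _) x c} = ⊤ := by
      refine span_eq_top_of_surjective fun v => ?_
      haveI := (hn x).1
      haveI := CDivNormal.isDVR hn x hx
      obtain ⟨u, rfl⟩ := RefStalk.surjective_stalkMap_bidualMap hc x v
      obtain ⟨k, rfl⟩ := (bijective_germ_of_isGen (isGen_tm (hge.res inf_le_left) (hgf.res inf_le_right)) hxO).2 u
      exact ⟨k, (map_smul _ _ _).symm⟩
    rw [dv, (lat_tensor hA hB).secOrdAt_mk hx hcspan (mul_ne_zero hφ hψ) ?_, dv, dv,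
      hA.secOrdAt_mk hx hm hφ hφs, hB.secOrdAt_mk hx hm' hψ hψt, Scheme.ord_mul hφ hψ]
    rw [← stalkMap_msp, msp_germ, germ_tm_eq hη hηO (hge.res inf_le_left) (hgf.res inf_le_right) hea heb,
      map_smul]

variable (hF : RefHull.IsRef1 F)
include hF hn

omit hn in
theorem sg_one_eq : sg s 1 (genericPoint X) =
    mgerm F (show genericPoint X ∈ (⊤ : X.Opens) from trivial) (SecTwist.val s ⊤ : Γ(F, (⊤ : X.Opens))) := by
  show (RefPow.refPow F 1).presheaf.germ ⊤ _ trivial (SecTwist.val (RefPow.sPow s 1) ⊤) = _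
  rw [RefPow.sPow_one]
  rfl

/-- The divisor of the powers of the section. -/
theorem key (hs : sg s 1 (genericPoint X) ≠ 0) : ∀ n : ℕ, RefHull.IsRef1 (RefPow.refPow F n) ∧
    sg s n (genericPoint X) ≠ 0 ∧ ∀ x : X, Order.coheight x = 1 →
      dv (RefPow.refPow F n) x (sg s n (genericPoint X)) = n * dv F x (sg s 1 (genericPoint X))
  | 0 => by
    have h0 : sg s 0 (genericPoint X) = oneM (genericPoint X) :=
      (stalkMap_sPow s 0 _).symm.trans (stalkMap_id _ _ _)
    refine ⟨isRef1_structureModule, fun e => oneM_ne_zero (h0.symm.trans e), fun x hx => ?_⟩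
    rw [h0, Nat.cast_zero, zero_mul, dv]
    exact (lat_structureModule.secOrdAt_mk hx (span_eq_top_of_surjective (oneM_bijective x).2)
      (one_ne_zero (α := X.functionField)) (by rw [msp_oneM, one_smul])).trans (ord_one x)
  | 1 => ⟨hF, hs, fun x _ => by rw [Nat.cast_one, one_mul]; rfl⟩
  | n + 2 => by
    obtain ⟨h1, h2, h3⟩ := key hs (n + 1)
    have hlat := lat_of_isRef1 h1
    have hlF := lat_of_isRef1 hF
    obtain ⟨h4, h5⟩ := dv_tm hn hlat hlF (show genericPoint X ∈ (⊤ : X.Opens) from trivial)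
      (SecTwist.val (RefPow.sPow s (n + 1)) ⊤ : Γ(RefPow.refPow F (n + 1), (⊤ : X.Opens)))
      (SecTwist.val s ⊤ : Γ(F, (⊤ : X.Opens))) h2 (by rw [← sg_one_eq s hF]; exact hs)
    refine ⟨isRef1_tensor hlat hlF, fun e => h4 ((sg_succ_succ s n _).symm.trans e), fun x hx => ?_⟩
    rw [sg_succ_succ]
    refine (h5 x hx).trans ?_
    rw [← sg_one_eq s hF]
    refine (congrArg (· + dv F x (sg s 1 (genericPoint X))) (h3 x hx)).trans ?_
    push_cast
    ring

variable (hs : sg s 1 (genericPoint X) ≠ 0)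
include hs

theorem lat_refPow (n : ℕ) : Lat (RefPow.refPow F n) := lat_of_isRef1 (key s hn hF hs n).1

/-- The order of the section at a point of codimension one. -/
abbrev d (x : X) : ℤ := dv F x (sg s 1 (genericPoint X))

theorem d_nonneg {x : X} (hx : Order.coheight x = 1) : 0 ≤ d s x := by
  have lF := lat_of_isRef1 hF
  obtain ⟨m, hm⟩ := lF.exists_span hn hx
  obtain ⟨a, ha⟩ := exists_smul_of_span hm (sg s 1 x : F.presheaf.stalk x)
  have h1 : sp x a • msp F (toGen x) m = sg s 1 (genericPoint X) :=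
    (msp_smul F _ a m).symm.trans ((congrArg _ ha).trans (msp_sg s (toGen x) 1))
  have ha0 : a ≠ 0 := fun e => hs (by rw [← h1, e, map_zero]; exact zero_smul _ _)
  rw [d, dv, lF.secOrdAt_mk hx hm (sp_ne_zero ha0) h1]
  exact (RefDiv.ord_nonneg_iff hn hx (sp_ne_zero ha0)).2 ⟨a, rfl⟩

/-- A rational multiple of the power that is regular in codimension one below `y` is regular at `y`. -/
theorem exists_stalk (n : ℕ) (φ : X.functionField) (y : X)
    (h : ∀ x : X, x ⤳ y → Order.coheight x = 1 → φ = 0 ∨ 0 ≤ Scheme.ord φ x + n * d s x) :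
    ∃ w : (RefPow.refPow F n).presheaf.stalk y,
      msp (RefPow.refPow F n) (toGen y) w = φ • sg s n (genericPoint X) := by
  obtain ⟨hr, hv, hD⟩ := key s hn hF hs n
  refine RefStalk.mem_range_msp hn hr.1 ((RefStalk.isReflexive_iff hr.1).1 hr.2.1) _ y fun x hxy hx => ?_
  rcases eq_or_ne φ 0 with rfl | hφ
  · exact ⟨0, by rw [map_zero]; exact (zero_smul _ _).symm⟩
  have hl := lat_of_isRef1 hr
  obtain ⟨m, hm⟩ := hl.exists_span hn hx
  obtain ⟨ψ, hψ, hψs⟩ := hl.exists_coeff hm hv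
  have hd : Scheme.ord ψ x = n * d s x := (hl.secOrdAt_mk hx hm hψ hψs).symm.trans (hD x hx)
  obtain ⟨r, hr'⟩ := (RefDiv.ord_nonneg_iff hn hx (mul_ne_zero hφ hψ)).1 (by
    rw [Scheme.ord_mul hφ hψ, hd]
    exact (h x hxy hx).resolve_left hφ)
  refine ⟨r • m, ?_⟩
  rw [msp_smul, ← hψs, smul_smul]
  exact congrArg (· • _) hr'

/-- Conversely the poles of an element of the stalk are bounded. -/
theorem ord_bound (n : ℕ) {φ : X.functionField} (hφ : φ ≠ 0) {x : X} (hx : Order.coheight x = 1)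
    {w : (RefPow.refPow F n).presheaf.stalk x}
    (hw : msp (RefPow.refPow F n) (toGen x) w = φ • sg s n (genericPoint X)) :
    0 ≤ Scheme.ord φ x + n * d s x := by
  obtain ⟨hr, hv, hD⟩ := key s hn hF hs n
  have hl := lat_of_isRef1 hr
  obtain ⟨m, hm⟩ := hl.exists_span hn hx
  obtain ⟨ψ, hψ, hψs⟩ := hl.exists_coeff hm hv
  obtain ⟨r, rfl⟩ := exists_smul_of_span hm w
  rw [← hD x hx, dv, hl.secOrdAt_mk hx hm hψ hψs, ← Scheme.ord_mul hφ hψ]
  refine (RefDiv.ord_nonneg_iff hn hx (mul_ne_zero hφ hψ)).2 ⟨r, smul_cancel (hl.msp_ne_zero hm) ?_⟩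
  rw [mul_smul, hψs, ← hw, msp_smul]

end Groth.Agent.RefPowLib
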