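import Groth.Agent.RefPowLib.Basic
import Groth.Agent.RefDiv.Ideal
import Groth.Agent.RefStalk.Restrict
import Groth.Agent.KFlat.SchemeStalk
import Mathlib

/-!
The comparison of the system of reflexive powers with the direct image from the locus where the section generates.
-/

set_option autoImplicit false
set_option linter.style.haveILetI false
set_option backward.isDefEq.respectTransparency false

universe u

open CategoryTheory CategoryTheory.Limits AlgebraicGeometry TopologicalSpace Opposite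
open Groth.Agent.QC (res resO res_res res_smul)
open Groth.Agent.WeakAssLib (mgerm mgerm_smul mgerm_res)
open Groth.Agent.RefStalk (msp msp_germ msp_smul msp_msp stalkMap_msp toGen)
open Groth.Agent.RefDiv

noncomputable section

namespace Groth.Agent.RefPowLib

variable {X : Scheme.{u}} {F : X.Modules} (s : Coh.structureModule X ⟶ F) (U : X.Opens)
  (hU : (U : Set X) = RefPow.isoLocus s)

include hU in
theorem mem_iff (x : X) : x ∈ U ↔ Function.Bijective fun a : X.presheaf.stalk x => a • sg s 1 x := by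
  show x ∈ (U : Set X) ↔ _
  rw [hU, RefPow.mem_isoLocus, ← (oneM_bijective x).of_comp_iff (RefHull.stalkMapₗ s x)]
  refine iff_of_eq (congrArg Function.Bijective (funext fun a => ?_))
  show RefHull.stalkMapₗ s x (a • oneM x) = _
  rw [map_smul]
  exact congrArg (a • ·) ((congrArg (fun t => RefHull.stalkMapₗ t x (oneM x)) (RefPow.sPow_one s).symm).trans
    (stalkMap_sPow s 1 x))

/-- The direct image of the structure sheaf of `U`. -/
abbrev J : X.Modules := (Scheme.Modules.pushforward U.ι).obj ((Coh.structureModule X).restrict U.ι)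

/-- Restriction to `U`. -/
abbrev toJ : Coh.structureModule X ⟶ J U :=
  (Scheme.Modules.restrictAdjunction U.ι).unit.app (Coh.structureModule X)

theorem image_eq (V : X.Opens) : U.ι ''ᵁ (U.ι ⁻¹ᵁ V) = U ⊓ V := by
  rw [Scheme.Hom.image_preimage_eq_opensRange_inf, Scheme.Opens.opensRange_ι]

/-- Germs of sections of the direct image at a point of `U` are multiples of the germ of one. -/
theorem mgerm_J {V : X.Opens} (r : Γ(J U, V)) {z : X} (hzV : z ∈ V) (hzU : z ∈ U) :
    mgerm (J U) hzV r = (X.presheaf.germ (U.ι ''ᵁ (U.ι ⁻¹ᵁ V)) z ((image_eq U V).ge ⟨hzU, hzV⟩)).hom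
      (show Γ(X, U.ι ''ᵁ (U.ι ⁻¹ᵁ V)) from r) • RefHull.stalkMapₗ (toJ U) z (oneM z) := by
  let W := U.ι ''ᵁ (U.ι ⁻¹ᵁ V)
  have hW : z ∈ W := (image_eq U V).ge ⟨hzU, hzV⟩
  have hWV : W ≤ V := U.ι.image_preimage_le V
  rw [← map_smul (RefHull.stalkMapₗ (toJ U) z), ← mgerm_struct hW (show Γ(X, W) from r)]
  refine Eq.trans ?_ (RefHull.stalkMapₗ_germ (toJ U) z hW _).symm
  refine (mgerm_res (J U) hWV hW r).symm.trans (congrArg _ ?_)
  change res (Coh.structureModule X) (U.ι.image_mono (U.ι.preimage_mono hWV)) r =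
    res (Coh.structureModule X) (U.ι.image_preimage_le W) r
  rfl

variable [IsIntegral X]

theorem mem_of_nonempty {O : X.Opens} {y : X} (hy : y ∈ O) : genericPoint X ∈ O := (toGen y).mem_open O.2 hy

theorem toJ_ne_zero (hη : genericPoint X ∈ U) : RefHull.stalkMapₗ (toJ U) (genericPoint X) (oneM _) ≠ 0 := by
  intro h0
  rw [stalkMap_oneM, ← map_zero (mgerm (J U) (show genericPoint X ∈ (⊤ : X.Opens) from trivial))] at h0
  obtain ⟨P, hP, i₁, i₂, he⟩ := TopCat.Presheaf.germ_eq (J U).presheaf (U := ⊤) (V := ⊤) (genericPoint X) trivial trivial _ _ h0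
  let W := U.ι ''ᵁ (U.ι ⁻¹ᵁ P)
  have hW : genericPoint X ∈ W := (image_eq U P).ge ⟨hη, hP⟩
  have he' : resO X (le_top : W ≤ ⊤) 1 = (0 : Γ(X, W)) := by
    refine Eq.trans ?_ (he.trans (map_zero _))
    change resO X (le_top : W ≤ ⊤) 1 =
      resO X (U.ι.image_mono (U.ι.preimage_mono i₁.le)) (resO X (U.ι.image_preimage_le ⊤) (1 : Γ(X, ⊤)))
    rw [map_one, map_one, map_one]
  rw [map_one] at he'
  exact one_ne_zero (α := X.functionField) ((map_one (X.presheaf.germ W _ hW).hom).symm.trans
    ((congrArg (X.presheaf.germ W _ hW).hom he').trans (map_zero _)))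

theorem injective_msp_J (y : X) : Function.Injective (msp (J U) (toGen y)) := by
  rw [injective_iff_map_eq_zero]
  intro w hw
  obtain ⟨V, hyV, r, rfl⟩ := TopCat.Presheaf.exists_germ_eq (J U).presheaf w
  suffices r = 0 by rw [this, map_zero]
  let W := U.ι ''ᵁ (U.ι ⁻¹ᵁ V)
  show (show Γ(X, W) from r) = 0
  refine TopCat.Presheaf.section_ext X.sheaf W _ _ fun z hz => ?_
  change (X.presheaf.germ W z hz).hom _ = (X.presheaf.germ W z hz).hom 0
  have hzU : z ∈ U := ((image_eq U V).le hz).1
  have hη : genericPoint X ∈ U := mem_of_nonempty hzU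
  have hηV : genericPoint X ∈ V := mem_of_nonempty hyV
  have hr := (msp_germ (J U) (toGen y) hyV r).symm.trans hw
  rw [mgerm_J U r hηV hη] at hr
  have h1 : (X.presheaf.germ W _ ((image_eq U V).ge ⟨hη, hηV⟩)).hom (show Γ(X, W) from r) = 0 := by
    by_contra hne
    exact smul_ne_zero' (toJ_ne_zero U hη) hne hr
  have h2 := AlgebraicGeometry.germ_injective_of_isIntegral (X := X) (U := W) (genericPoint X)
    ((image_eq U V).ge ⟨hη, hηV⟩) (h1.trans (map_zero _).symm)
  rw [h2]

variable [IsLocallyNoetherian X] (hn : Pi1.IsNormalScheme X) (hF : RefHull.IsRef1 F)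
include hn hF hU

theorem generic_mem (hs : sg s 1 (genericPoint X) ≠ 0) : genericPoint X ∈ U :=
  (mem_iff s U hU _).2 ⟨fun _ _ => smul_cancel (M := F) hs, (lat_of_isRef1 hF).exists_smul (M := F) hs⟩

theorem eq_bot_of_zero (hs : sg s 1 (genericPoint X) = 0) (y : X) : y ∉ U := fun hy => by
  have h := (mem_iff s U hU _).1 (mem_of_nonempty hy)
  exact zero_ne_one (α := X.functionField) (h.1 (by
    show (0 : X.functionField) • sg s 1 (genericPoint X) = (1 : X.functionField) • sg s 1 (genericPoint X)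
    rw [hs]; exact (smul_zero _).trans (smul_zero _).symm))

theorem sg_ne_zero_of_mem {y : X} (hy : y ∈ U) : sg s 1 (genericPoint X) ≠ 0 :=
  fun h => eq_bot_of_zero s U hU hn hF h y hy

theorem d_eq_zero {x : X} (hx : Order.coheight x = 1) (hxU : x ∈ U) : d s x = 0 := by
  have hb := (mem_iff s U hU x).1 hxU
  exact ((lat_of_isRef1 hF).secOrdAt_mk hx (span_eq_top_of_surjective (M := F) hb.2)
    (one_ne_zero (α := X.functionField)) (by
      rw [one_smul]; exact msp_sg s (toGen x) 1)).trans (ord_one x)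

theorem one_le_d (hs : sg s 1 (genericPoint X) ≠ 0) {x : X} (hx : Order.coheight x = 1) (hxU : x ∉ U) :
    1 ≤ d s x := by
  by_contra hc
  have h0 : d s x = 0 := le_antisymm (by omega) (d_nonneg s hn hF hs hx)
  have lF := lat_of_isRef1 hF
  obtain ⟨m, hm⟩ := lF.exists_span hn hx
  obtain ⟨a, ha⟩ := exists_smul_of_span hm (sg s 1 x : F.presheaf.stalk x)
  have h1 : sp x a • msp F (toGen x) m = sg s 1 (genericPoint X) :=
    (msp_smul F _ a m).symm.trans ((congrArg _ ha).trans (msp_sg s (toGen x) 1))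
  have ha0 : a ≠ 0 := fun e => hs (by rw [← h1, e, map_zero]; exact zero_smul _ _)
  have hord : Scheme.ord (sp x a) x = 0 := (lF.secOrdAt_mk hx hm (sp_ne_zero ha0) h1).symm.trans h0
  obtain ⟨r, hr⟩ := (RefDiv.ord_nonneg_iff hn hx (inv_ne_zero (sp_ne_zero ha0))).1 (by
    rw [RefDiv.ord_inv (sp_ne_zero ha0)]; omega)
  have hu : r * a = 1 := sp_injective x (by rw [map_mul, hr, map_one, inv_mul_cancel₀ (sp_ne_zero ha0)])
  refine hxU ((mem_iff s U hU x).2 ⟨?_, fun v => ?_⟩)
  · haveI := lF.tf x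
    exact smul_left_injective _ (M := F.presheaf.stalk x)
      (fun e => hs ((msp_sg s (toGen x) 1).symm.trans ((congrArg (msp F (toGen x)) e).trans (map_zero _))))
  · obtain ⟨b, rfl⟩ := exists_smul_of_span hm v
    refine ⟨b * r, ?_⟩
    show (b * r) • (sg s 1 x : F.presheaf.stalk x) = b • m
    rw [← ha, smul_smul, mul_assoc, hu, mul_one]

theorem bijective_sg {y : X} (hy : y ∈ U) (n : ℕ) :
    Function.Bijective fun a : X.presheaf.stalk y => a • sg s n y := by
  have hs := sg_ne_zero_of_mem s U hU hn hF hy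
  obtain ⟨hr, hv, hD⟩ := key s hn hF hs n
  have hl := lat_of_isRef1 hr
  haveI := hl.tf y
  refine ⟨smul_left_injective _ fun e => hv ?_, fun w => ?_⟩
  · rw [← msp_sg s (toGen y) n, e, map_zero]
  obtain ⟨φ, hφ⟩ := hl.exists_smul hv (msp _ (toGen y) w)
  obtain ⟨r, hr'⟩ := CDivNormal.mem_range_of_codim_one hn φ y fun x hxy hx => by
    rcases eq_or_ne φ 0 with rfl | hφ0
    · exact ⟨0, map_zero _⟩
    refine (RefDiv.ord_nonneg_iff hn hx hφ0).1 ?_
    have := ord_bound s hn hF hs n hφ0 hx (w := msp _ hxy w) (by rw [msp_msp, hφ])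
    rw [d_eq_zero s U hU hn hF hx (hxy.mem_open U.2 hy), mul_zero, add_zero] at this
    exact this
  refine ⟨r, hl.injective_msp y ?_⟩
  show msp _ (toGen y) (r • sg s n y) = _
  rw [msp_smul, msp_sg, ← hφ]
  exact congrArg (· • _) hr'

theorem isIso_restrict (n : ℕ) :
    IsIso ((Scheme.Modules.restrictFunctor U.ι).map (RefPow.sPow s n)) :=
  ZCl.isIso_of_bijective _ fun O => by
    refine RefStalk.bijective_app_of_stalk (RefPow.sPow s n) (V := U.ι ''ᵁ O) fun x hx => ?_
    have hxU : x ∈ U := by obtain ⟨y, -, rfl⟩ := hx; exact y.2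
    rw [← (oneM_bijective x).of_comp_iff (RefHull.stalkMapₗ (RefPow.sPow s n) x)]
    convert bijective_sg s U hU hn hF hxU n using 1
    funext a
    show RefHull.stalkMapₗ _ x (a • oneM x) = _
    rw [map_smul, stalkMap_sPow]

/-- The comparison maps. -/
def leg (n : ℕ) : RefPow.refPow F n ⟶ J U :=
  haveI := isIso_restrict s U hU hn hF n
  (Scheme.Modules.restrictAdjunction U.ι).unit.app (RefPow.refPow F n) ≫
    (Scheme.Modules.pushforward U.ι).map (inv ((Scheme.Modules.restrictFunctor U.ι).map (RefPow.sPow s n)))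

theorem sPow_leg (n : ℕ) : RefPow.sPow s n ≫ leg s U hU hn hF n = toJ U := by
  haveI := isIso_restrict s U hU hn hF n
  have hnat := (Scheme.Modules.restrictAdjunction U.ι).unit.naturality (RefPow.sPow s n)
  simp only [Functor.id_map, Functor.comp_map] at hnat
  rw [leg, ← Category.assoc, hnat, Category.assoc, ← Functor.map_comp, IsIso.hom_inv_id]
  exact (congrArg _ (CategoryTheory.Functor.map_id _ _)).trans (Category.comp_id _)

theorem mulBy_leg (n : ℕ) : RefPow.mulBy s n ≫ leg s U hU hn hF (n + 1) = leg s U hU hn hF n := by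
  haveI := isIso_restrict s U hU hn hF n
  haveI := isIso_restrict s U hU hn hF (n + 1)
  have hnat := (Scheme.Modules.restrictAdjunction U.ι).unit.naturality (RefPow.mulBy s n)
  simp only [Functor.id_map, Functor.comp_map] at hnat
  rw [leg, leg, ← Category.assoc, hnat, Category.assoc, ← Functor.map_comp]
  congr 2
  rw [IsIso.comp_inv_eq, IsIso.eq_inv_comp, ← Functor.map_comp]
  rfl

theorem leg_zero : leg s U hU hn hF 0 = toJ U := by
  have h := sPow_leg s U hU hn hF 0
  rw [RefPow.sPow_zero] at h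
  exact (Category.id_comp _).symm.trans h

theorem leg_sg (n : ℕ) (y : X) :
    RefHull.stalkMapₗ (leg s U hU hn hF n) y (sg s n y) = RefHull.stalkMapₗ (toJ U) y (oneM y) := by
  rw [← stalkMap_sPow, ← stalkMap_comp, sPow_leg]

theorem msp_leg (hs : sg s 1 (genericPoint X) ≠ 0) (n : ℕ) {y : X} {w : (RefPow.refPow F n).presheaf.stalk y}
    {φ : X.functionField} (hw : msp (RefPow.refPow F n) (toGen y) w = φ • sg s n (genericPoint X)) :
    msp (J U) (toGen y) (RefHull.stalkMapₗ (leg s U hU hn hF n) y w) =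
      φ • RefHull.stalkMapₗ (toJ U) (genericPoint X) (oneM _) := by
  rw [← stalkMap_msp, hw, map_smul, leg_sg]

/-- The comparison maps are injective when the section is not zero. -/
theorem leg_injective (hs : sg s 1 (genericPoint X) ≠ 0) (n : ℕ) (y : X) :
    Function.Injective (RefHull.stalkMapₗ (leg s U hU hn hF n) y) := by
  have hl := lat_refPow s hn hF hs n
  rw [injective_iff_map_eq_zero]
  intro w hw
  obtain ⟨φ, hφ⟩ := hl.exists_smul (key s hn hF hs n).2.1 (msp _ (toGen y) w)
  have h0 := msp_leg s U hU hn hF hs n hφ.symm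
  rw [hw, map_zero] at h0
  refine hl.injective_msp y ?_
  rw [map_zero, ← hφ, show φ = 0 by
    by_contra hne; exact smul_ne_zero' (toJ_ne_zero U (generic_mem s U hU hn hF hs)) hne h0.symm]
  exact zero_smul _ _

/-- Sections of the direct image have bounded poles along the complement. -/
theorem exists_leg_eq (hs : sg s 1 (genericPoint X) ≠ 0) {y : X} (w : (J U).presheaf.stalk y) :
    ∃ (n : ℕ) (v : (RefPow.refPow F n).presheaf.stalk y), RefHull.stalkMapₗ (leg s U hU hn hF n) y v = w := by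
  classical
  have hη := generic_mem s U hU hn hF hs
  obtain ⟨V₀, hy₀, r₀, rfl⟩ := TopCat.Presheaf.exists_germ_eq (J U).presheaf w
  obtain ⟨V, hV, hyV, hle⟩ := exists_isAffineOpen_mem_and_subset (x := y) (U := V₀) hy₀
  let r : Γ(J U, V) := res (J U) hle r₀
  have hηV : genericPoint X ∈ V := mem_of_nonempty hyV
  let W := U.ι ''ᵁ (U.ι ⁻¹ᵁ V)
  let φ : X.functionField :=
    (X.presheaf.germ W _ ((image_eq U V).ge ⟨hη, hηV⟩)).hom (show Γ(X, W) from r)
  have hw : msp (J U) (toGen y) ((J U).presheaf.germ V₀ y hy₀ r₀) =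
      φ • RefHull.stalkMapₗ (toJ U) (genericPoint X) (oneM _) :=
    ((congrArg (msp (J U) (toGen y)) (mgerm_res (J U) hle hyV r₀).symm).trans (msp_germ (J U) (toGen y) hyV r)).trans
      (mgerm_J U r hηV hη)
  rcases eq_or_ne φ 0 with hφ | hφ
  · refine ⟨0, 0, injective_msp_J U y ?_⟩
    rw [map_zero, map_zero, hw, hφ]
    exact (zero_smul _ _).symm
  let T := (DivOrd.finite_ord_ne_zero V hV φ hφ).toFinset
  let N : ℕ := ∑ x ∈ T, (Scheme.ord φ x).natAbs
  obtain ⟨v, hv⟩ := exists_stalk s hn hF hs N φ y fun x hxy hx => Or.inr (by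
    have hd := d_nonneg s hn hF hs hx
    have hxV : x ∈ V := hxy.mem_open V.2 hyV
    by_cases hxU : x ∈ U
    · have h1 : 0 ≤ Scheme.ord φ x := (RefDiv.ord_nonneg_iff hn hx hφ).2
        ⟨(X.presheaf.germ W x ((image_eq U V).ge ⟨hxU, hxV⟩)).hom (show Γ(X, W) from r),
          X.presheaf.germ_stalkSpecializes_apply _ (toGen x) _⟩
      have : (0 : ℤ) ≤ N * d s x := mul_nonneg (Nat.cast_nonneg N) hd
      omega
    · by_cases h0 : Scheme.ord φ x = 0
      · rw [h0, zero_add]; exact mul_nonneg (Nat.cast_nonneg N) hd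
      have h1 : (Scheme.ord φ x).natAbs ≤ N :=
        Finset.single_le_sum (f := fun z => (Scheme.ord φ z).natAbs) (fun z _ => Nat.zero_le _)
          ((DivOrd.finite_ord_ne_zero V hV φ hφ).mem_toFinset.2 ⟨hxV, hx, h0⟩)
      have h2 := mul_le_mul_of_nonneg_left (one_le_d s U hU hn hF hs hx hxU) (Nat.cast_nonneg (α := ℤ) N)
      omega)
  exact ⟨N, v, injective_msp_J U y ((msp_leg s U hU hn hF hs N hv).trans hw.symm)⟩

end Groth.Agent.RefPowLib
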